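import Cfsg.Agent.H524.RIM.PX
import Cfsg.Agent.H665.RIM.Defs
import Cfsg.Agent.SmallSimple.SylowCount

/-!
# S4816: `NoPEx 7 A₇` (helper809)

Two Sylow 7-subgroups generate `A₇` and there are at most 180 of them, so a module all of whose orbits have size prime
to 7 has order at most `7 ^ 4`. The four-group on `{0, 1, 2, 3}`, the 3-cycle `(4 5 6)`, which is inverted by
`(0 1)(4 5)`, give `7 ^ 5 ≤ |V|` (`big`).
-/

set_option autoImplicit false
set_option linter.unusedSectionVars false

namespace Cfsg.Agent.H809.RIM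

open Subgroup Cfsg.Agent.H524.RIM

section module

variable {H : Type*} [Group H] {V : Type*} [AddCommGroup V] [Finite V] [DistribMulAction H V]

theorem three_eq_zero (h7 : ∀ v : V, 7 • v = 0) {v : V} (h : v + v + v = 0) : v = 0 := by
  have h1 := h7 v
  have h2 : v = 7 • v - 2 • (v + v + v) := by
    simp only [smul_add]
    abel
  rw [h2, h1, h]
  simp

theorem two_eq_zero (h7 : ∀ v : V, 7 • v = 0) {v : V} (h : v + v = 0) : v = 0 := by
  have h1 := h7 v
  have h2 : v = 7 • v - 3 • (v + v) := by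
    simp only [smul_add]
    abel
  rw [h2, h1, h]
  simp

theorem card_pow (h7 : ∀ v : V, 7 • v = 0) (X : AddSubgroup V) : ∃ k : ℕ, Nat.card X = 7 ^ k := by
  have : Fact (Nat.Prime 7) := ⟨by norm_num⟩
  have hV : IsPGroup 7 (Multiplicative X) := by
    intro v
    refine ⟨1, ?_⟩
    rw [pow_one]
    exact Subtype.ext (h7 (Multiplicative.toAdd v : X))
  obtain ⟨n, hn⟩ := IsPGroup.iff_card.1 hV
  exact ⟨n, hn⟩

theorem seven_le (h7 : ∀ v : V, 7 • v = 0) {X : AddSubgroup V} {w : V} (hw : w ∈ X) (hw0 : w ≠ 0) :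
    7 ≤ Nat.card X := by
  obtain ⟨k, hk⟩ := card_pow h7 X
  rcases Nat.eq_zero_or_pos k with rfl | hk0
  · exfalso
    rw [pow_zero] at hk
    have h1 : X = ⊥ := AddSubgroup.card_eq_one.1 hk
    rw [h1] at hw
    exact hw0 hw
  · rw [hk]
    calc 7 = 7 ^ 1 := by norm_num
      _ ≤ 7 ^ k := Nat.pow_le_pow_right (by norm_num) hk0

/-- an element of order three inverted by another one needs dimension two -/
theorem fortynine_le (h7 : ∀ v : V, 7 • v = 0) {g h : H} (hgh : g * h = h * (g * g)) (hg3 : g * (g * g) = 1)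
    {X : AddSubgroup V} (hgX : ∀ v ∈ X, g • v ∈ X) (hhX : ∀ v ∈ X, h • v ∈ X) {w : V} (hw : w ∈ X) (hgw : g • w ≠ w) :
    49 ≤ Nat.card X := by
  have hw0 : w ≠ 0 := by
    rintro rfl
    exact hgw (smul_zero g)
  obtain ⟨k, hk⟩ := card_pow h7 X
  by_contra hlt
  have hk1 : k ≤ 1 := by
    by_contra h2
    apply hlt
    rw [hk]
    calc 49 = 7 ^ 2 := by norm_num
      _ ≤ 7 ^ k := Nat.pow_le_pow_right (by norm_num) (by omega)
  have hX7 : Nat.card X ≤ 7 := by
    rw [hk]
    calc 7 ^ k ≤ 7 ^ 1 := Nat.pow_le_pow_right (by norm_num) hk1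
      _ = 7 := by norm_num
  have hZX : AddSubgroup.zmultiples w ≤ X := AddSubgroup.zmultiples_le_of_mem hw
  have hZ7 : 7 ≤ Nat.card (AddSubgroup.zmultiples w) := seven_le h7 (AddSubgroup.mem_zmultiples w) hw0
  have hXZ : AddSubgroup.zmultiples w = X := AddSubgroup.eq_of_le_of_card_ge hZX (hX7.trans hZ7)
  have h1 : g • w ∈ AddSubgroup.zmultiples w := by rw [hXZ]; exact hgX w hw
  have h2 : h • w ∈ AddSubgroup.zmultiples w := by rw [hXZ]; exact hhX w hw
  obtain ⟨m, hm⟩ := AddSubgroup.mem_zmultiples_iff.1 h1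
  obtain ⟨l, hl⟩ := AddSubgroup.mem_zmultiples_iff.1 h2
  have h3 : g • h • w = m • (h • w) := by
    rw [← hl, smul_comm g l w, ← hm, smul_comm]
  have h4 : g • h • w = h • g • g • w := by
    rw [smul_smul, smul_smul, smul_smul, hgh, mul_assoc]
  have h5 : m • (h • w) = h • (m • w) := (smul_comm h m w).symm
  have h6 : g • g • w = m • w := by
    have : h • g • g • w = h • m • w := by rw [← h4, h3, h5]
    exact smul_left_cancel h this
  apply hgw
  rw [hm] at h6
  exact smul_left_cancel g h6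

/-- the simultaneous eigenspaces of two involutions -/
def eig (V : Type*) [AddCommGroup V] [DistribMulAction H V] (a b : H) (e f : ℤ) : AddSubgroup V where
  carrier := {v | a • v = e • v ∧ b • v = f • v}
  zero_mem' := by simp
  add_mem' := by
    rintro v w ⟨h1, h2⟩ ⟨h3, h4⟩
    exact ⟨by rw [smul_add, h1, h3, smul_add], by rw [smul_add, h2, h4, smul_add]⟩
  neg_mem' := by
    rintro v ⟨h1, h2⟩
    exact ⟨by rw [smul_neg, h1, smul_neg], by rw [smul_neg, h2, smul_neg]⟩

theorem mem_eig {a b : H} {e f : ℤ} {v : V} : v ∈ eig V a b e f ↔ a • v = e • v ∧ b • v = f • v := Iff.rfl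

theorem card_eig_le (h7 : ∀ v : V, 7 • v = 0) (a b : H) :
    Nat.card (eig V a b 1 1) * Nat.card (eig V a b 1 (-1)) * Nat.card (eig V a b (-1) 1) *
      Nat.card (eig V a b (-1) (-1)) ≤ Nat.card V := by
  rw [← Nat.card_prod, ← Nat.card_prod, ← Nat.card_prod]
  let f : ((eig V a b 1 1 × eig V a b 1 (-1)) × eig V a b (-1) 1) × eig V a b (-1) (-1) → V :=
    fun x => (x.1.1.1 : V) + x.1.1.2 + x.1.2 + x.2
  refine Nat.card_le_card_of_injective f ?_
  -- the kernel
  have key : ∀ v0 ∈ eig V a b 1 1, ∀ v1 ∈ eig V a b 1 (-1), ∀ v2 ∈ eig V a b (-1) 1, ∀ v3 ∈ eig V a b (-1) (-1),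
      v0 + v1 + v2 + v3 = 0 → v0 = 0 ∧ v1 = 0 ∧ v2 = 0 ∧ v3 = 0 := by
    rintro v0 ⟨a0, b0⟩ v1 ⟨a1, b1⟩ v2 ⟨a2, b2⟩ v3 ⟨a3, b3⟩ h
    simp only [one_smul, neg_smul] at a0 b0 a1 b1 a2 b2 a3 b3
    have ha := congrArg (fun v => a • v) h
    simp only [smul_add, a0, a1, a2, a3, smul_zero] at ha
    have h01 : v0 + v1 = 0 := by
      apply two_eq_zero h7
      calc v0 + v1 + (v0 + v1) = (v0 + v1 + v2 + v3) + (v0 + v1 + -v2 + -v3) := by abel
        _ = 0 := by rw [h, ha, add_zero]
    have h23 : v2 + v3 = 0 := by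
      rw [h01, zero_add] at h
      exact h
    have hb := congrArg (fun v => b • v) h01
    simp only [smul_add, b0, b1, smul_zero] at hb
    have hb' := congrArg (fun v => b • v) h23
    simp only [smul_add, b2, b3, smul_zero] at hb'
    have e0 : v0 = 0 := by
      apply two_eq_zero h7
      calc v0 + v0 = (v0 + v1) + (v0 + -v1) := by abel
        _ = 0 := by rw [h01, hb, add_zero]
    have e2 : v2 = 0 := by
      apply two_eq_zero h7
      calc v2 + v2 = (v2 + v3) + (v2 + -v3) := by abel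
        _ = 0 := by rw [h23, hb', add_zero]
    rw [e0, zero_add] at h01
    rw [e2, zero_add] at h23
    exact ⟨e0, h01, e2, h23⟩
  rintro ⟨⟨⟨x0, x1⟩, x2⟩, x3⟩ ⟨⟨⟨y0, y1⟩, y2⟩, y3⟩ hxy
  have h : (x0 : V) + x1 + x2 + x3 = y0 + y1 + y2 + y3 := hxy
  obtain ⟨e0, e1, e2, e3⟩ := key (x0 - y0) (sub_mem x0.2 y0.2) (x1 - y1) (sub_mem x1.2 y1.2)
    (x2 - y2) (sub_mem x2.2 y2.2) (x3 - y3) (sub_mem x3.2 y3.2) (by
      calc (x0 - y0 : V) + (x1 - y1) + (x2 - y2) + (x3 - y3) = (x0 + x1 + x2 + x3) - (y0 + y1 + y2 + y3) := by abel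
        _ = 0 := by rw [h, sub_self])
  have f0 : x0 = y0 := Subtype.ext (sub_eq_zero.1 e0)
  have f1 : x1 = y1 := Subtype.ext (sub_eq_zero.1 e1)
  have f2 : x2 = y2 := Subtype.ext (sub_eq_zero.1 e2)
  have f3 : x3 = y3 := Subtype.ext (sub_eq_zero.1 e3)
  rw [f0, f1, f2, f3]

theorem card_eig_mono {a b a' b' s : H} {e f e' f' : ℤ}
    (hs : ∀ v ∈ eig V a b e f, s • v ∈ eig V a' b' e' f') : Nat.card (eig V a b e f) ≤ Nat.card (eig V a' b' e' f') := by
  refine Nat.card_le_card_of_injective (fun v => ⟨s • (v : V), hs v v.2⟩) ?_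
  intro v w h
  exact Subtype.ext (smul_left_cancel s (congrArg Subtype.val h))

/-- **The bound** `7 ^ 5 ≤ |V|`. -/
theorem big (h7 : ∀ v : V, 7 • v = 0) {a b g h s : H} (ha : a * a = 1) (hb : b * b = 1) (hab : a * b = b * a)
    (hg3 : g * (g * g) = 1) (hga : g * a = a * g) (hgb : g * b = b * g) (hgh : g * h = h * (g * g))
    (hha : a * h = h * a) (hhb : b * h = h * (a * b)) (hsa : a * s = s * (a * b)) (hsb : b * s = s * a)
    (hgs : g * s = s * g) (hnea : ∃ v : V, a • v ≠ v) (hneg : ∃ v : V, g • v ≠ v) : 7 ^ 5 ≤ Nat.card V := by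
  have hone : ∀ v : V, (1 : ℤ) • v = v := one_smul ℤ
  have hneg1 : ∀ v : V, (-1 : ℤ) • v = -v := fun v => by rw [neg_smul, one_smul]
  -- the rotation
  have r1 : ∀ v ∈ eig V a b 1 (-1), s • v ∈ eig V a b (-1) 1 := by
    rintro v ⟨h1, h2⟩
    rw [hone] at h1
    rw [hneg1] at h2
    refine ⟨?_, ?_⟩
    · rw [smul_smul, hsa, mul_smul, mul_smul, h2, smul_neg, h1, smul_neg, hneg1]
    · rw [smul_smul, hsb, mul_smul, h1, hone]
  have r2 : ∀ v ∈ eig V a b (-1) 1, s • v ∈ eig V a b (-1) (-1) := by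
    rintro v ⟨h1, h2⟩
    rw [hneg1] at h1
    rw [hone] at h2
    refine ⟨?_, ?_⟩
    · rw [smul_smul, hsa, mul_smul, mul_smul, h2, h1, smul_neg, hneg1]
    · rw [smul_smul, hsb, mul_smul, h1, smul_neg, hneg1]
  have r3 : ∀ v ∈ eig V a b (-1) (-1), s • v ∈ eig V a b 1 (-1) := by
    rintro v ⟨h1, h2⟩
    rw [hneg1] at h1 h2
    refine ⟨?_, ?_⟩
    · rw [smul_smul, hsa, mul_smul, mul_smul, h2, smul_neg, h1, neg_neg, hone]
    · rw [smul_smul, hsb, mul_smul, h1, smul_neg, hneg1]
  have c1 := card_eig_mono r1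
  have c2 := card_eig_mono r2
  have c3 := card_eig_mono r3
  have hcard := card_eig_le h7 a b (V := V)
  -- stability under `g`, `h`
  have gst : ∀ e f : ℤ, ∀ v ∈ eig V a b e f, g • v ∈ eig V a b e f := by
    rintro e f v ⟨h1, h2⟩
    refine ⟨?_, ?_⟩
    · rw [smul_smul, ← hga, mul_smul, h1, smul_comm]
    · rw [smul_smul, ← hgb, mul_smul, h2, smul_comm]
  have hst0 : ∀ v ∈ eig V a b 1 1, h • v ∈ eig V a b 1 1 := by
    rintro v ⟨h1, h2⟩
    rw [hone] at h1 h2
    refine ⟨?_, ?_⟩
    · rw [smul_smul, hha, mul_smul, h1, hone]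
    · rw [smul_smul, hhb, mul_smul, mul_smul, h2, h1, hone]
  have hst1 : ∀ v ∈ eig V a b 1 (-1), h • v ∈ eig V a b 1 (-1) := by
    rintro v ⟨h1, h2⟩
    rw [hone] at h1
    rw [hneg1] at h2
    refine ⟨?_, ?_⟩
    · rw [smul_smul, hha, mul_smul, h1, hone]
    · rw [smul_smul, hhb, mul_smul, mul_smul, h2, smul_neg, h1, smul_neg, hneg1]
  -- the components
  have haa : ∀ v : V, a • a • v = v := fun v => by rw [smul_smul, ha, one_smul]
  have hbb : ∀ v : V, b • b • v = v := fun v => by rw [smul_smul, hb, one_smul]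
  have hba : ∀ v : V, b • a • v = a • b • v := fun v => by rw [smul_smul, smul_smul, hab]
  have u0 : ∀ v : V, v + a • v + b • v + a • b • v ∈ eig V a b 1 1 := by
    intro v
    refine ⟨?_, ?_⟩
    · rw [smul_add, smul_add, smul_add, haa, haa, hone]
      abel
    · rw [smul_add, smul_add, smul_add, hba, hba, hbb, hone]
      abel
  have u1 : ∀ v : V, v + a • v - b • v - a • b • v ∈ eig V a b 1 (-1) := by
    intro v
    refine ⟨?_, ?_⟩
    · rw [smul_sub, smul_sub, smul_add, haa, haa, hone]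
      abel
    · rw [smul_sub, smul_sub, smul_add, hba, hba, hbb, hneg1]
      abel
  have u2 : ∀ v : V, v - a • v + b • v - a • b • v ∈ eig V a b (-1) 1 := by
    intro v
    refine ⟨?_, ?_⟩
    · rw [smul_sub, smul_add, smul_sub, haa, haa, hneg1]
      abel
    · rw [smul_sub, smul_add, smul_sub, hba, hba, hbb, hone]
      abel
  have u3 : ∀ v : V, v - a • v - b • v + a • b • v ∈ eig V a b (-1) (-1) := by
    intro v
    refine ⟨?_, ?_⟩
    · rw [smul_add, smul_sub, smul_sub, haa, haa, hneg1]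
      abel
    · rw [smul_add, smul_sub, smul_sub, hba, hba, hbb, hneg1]
      abel
  -- `eig 1 (-1) ≠ 0`
  have hVa : 7 ≤ Nat.card (eig V a b 1 (-1)) := by
    by_contra hlt
    obtain ⟨k, hk⟩ := card_pow h7 (eig V a b 1 (-1))
    have hk0 : k = 0 := by
      by_contra h2
      apply hlt
      rw [hk]
      calc 7 = 7 ^ 1 := by norm_num
        _ ≤ 7 ^ k := Nat.pow_le_pow_right (by norm_num) (by omega)
    rw [hk0, pow_zero] at hk
    have hc3 : Nat.card (eig V a b (-1) (-1)) = 1 := le_antisymm (c3.trans hk.le) Nat.card_pos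
    have hc2 : Nat.card (eig V a b (-1) 1) = 1 := le_antisymm (c2.trans hc3.le) Nat.card_pos
    obtain ⟨v, hv⟩ := hnea
    apply hv
    have e2 := u2 v
    have e3 := u3 v
    rw [AddSubgroup.card_eq_one.1 hc2, AddSubgroup.mem_bot] at e2
    rw [AddSubgroup.card_eq_one.1 hc3, AddSubgroup.mem_bot] at e3
    have h1 : v - a • v = 0 := by
      apply two_eq_zero h7
      calc v - a • v + (v - a • v) = (v - a • v + b • v - a • b • v) + (v - a • v - b • v + a • b • v) := by abel
        _ = 0 := by rw [e2, e3, add_zero]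
    exact (sub_eq_zero.1 h1).symm
  have hVc := hVa.trans (c1.trans c2)
  have hVb := hVa.trans c1
  by_cases hcase : ∃ v ∈ eig V a b 1 (-1), g • v ≠ v
  · obtain ⟨v, hv, hgv⟩ := hcase
    have h49 := fortynine_le h7 hgh hg3 (gst 1 (-1)) hst1 hv hgv
    have h1 : 49 ≤ Nat.card (eig V a b (-1) 1) := h49.trans c1
    have h2 : 49 ≤ Nat.card (eig V a b (-1) (-1)) := h1.trans c2
    have h0 : 1 ≤ Nat.card (eig V a b 1 1) := Nat.card_pos
    calc 7 ^ 5 ≤ 1 * 49 * 49 * 49 := by norm_num
      _ ≤ _ := Nat.mul_le_mul (Nat.mul_le_mul (Nat.mul_le_mul h0 h49) h1) h2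
      _ ≤ _ := hcard
  · push Not at hcase
    have f3 : ∀ v ∈ eig V a b (-1) (-1), g • v = v := by
      intro v hv
      have h1 := hcase _ (r3 v hv)
      rw [smul_smul, hgs, mul_smul] at h1
      exact smul_left_cancel s h1
    have f2 : ∀ v ∈ eig V a b (-1) 1, g • v = v := by
      intro v hv
      have h1 := f3 _ (r2 v hv)
      rw [smul_smul, hgs, mul_smul] at h1
      exact smul_left_cancel s h1
    obtain ⟨v, hv⟩ := hneg
    set w := v - g • v with hw
    have hggg : ∀ v : V, g • g • g • v = v := fun v => by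
      rw [smul_smul, smul_smul, mul_assoc, hg3, one_smul]
    have hw3 : w + g • w + g • g • w = 0 := by
      rw [hw, smul_sub, smul_sub, hggg]
      abel
    have hw0 : w ≠ 0 := by
      intro h1
      exact hv (sub_eq_zero.1 h1).symm
    -- a fixed vector `u` with `u + g u + g² u = 0` vanishes
    have hz : ∀ u : V, g • u = u → u + g • u + g • g • u = 0 → u = 0 := by
      intro u h1 h2
      rw [h1, h1] at h2
      exact three_eq_zero h7 h2
    have gab : ∀ u : V, g • a • u = a • g • u := fun u => by rw [smul_smul, hga, mul_smul]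
    have gbb : ∀ u : V, g • b • u = b • g • u := fun u => by rw [smul_smul, hgb, mul_smul]
    have hsum : ∀ u : V, u + g • u + g • g • u = 0 → a • u + g • a • u + g • g • a • u = 0 ∧
        b • u + g • b • u + g • g • b • u = 0 := by
      intro u hu
      constructor
      · rw [gab, gab, ← smul_add, ← smul_add, hu, smul_zero]
      · rw [gbb, gbb, ← smul_add, ← smul_add, hu, smul_zero]
    have hA := (hsum w hw3).1
    have hB := (hsum w hw3).2
    have hAB := (hsum _ hB).1
    have z1 : w + a • w - b • w - a • b • w = 0 := by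
      apply hz _ (hcase _ (u1 w))
      simp only [smul_add, smul_sub]
      calc _ = (w + g • w + g • g • w) + (a • w + g • a • w + g • g • a • w) -
            (b • w + g • b • w + g • g • b • w) - (a • b • w + g • a • b • w + g • g • a • b • w) := by abel
        _ = 0 := by rw [hw3, hA, hB, hAB]; simp
    have z2 : w - a • w + b • w - a • b • w = 0 := by
      apply hz _ (f2 _ (u2 w))
      simp only [smul_add, smul_sub]
      calc _ = (w + g • w + g • g • w) - (a • w + g • a • w + g • g • a • w) +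
            (b • w + g • b • w + g • g • b • w) - (a • b • w + g • a • b • w + g • g • a • b • w) := by abel
        _ = 0 := by rw [hw3, hA, hB, hAB]; simp
    have z3 : w - a • w - b • w + a • b • w = 0 := by
      apply hz _ (f3 _ (u3 w))
      simp only [smul_add, smul_sub]
      calc _ = (w + g • w + g • g • w) - (a • w + g • a • w + g • g • a • w) -
            (b • w + g • b • w + g • g • b • w) + (a • b • w + g • a • b • w + g • g • a • b • w) := by abel
        _ = 0 := by rw [hw3, hA, hB, hAB]; simp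
    set u := w + a • w + b • w + a • b • w with hu
    have hu4 : u = (w + w) + (w + w) := by
      calc u = u + (w + a • w - b • w - a • b • w) + (w - a • w + b • w - a • b • w) +
            (w - a • w - b • w + a • b • w) := by rw [z1, z2, z3]; simp
        _ = _ := by rw [hu]; abel
    have hu0 : u ≠ 0 := by
      intro h1
      rw [hu4] at h1
      exact hw0 (two_eq_zero h7 (two_eq_zero h7 h1))
    have hgu : g • u ≠ u := by
      intro h1
      apply hu0
      apply hz u h1
      rw [hu]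
      simp only [smul_add]
      calc _ = (w + g • w + g • g • w) + (a • w + g • a • w + g • g • a • w) +
            (b • w + g • b • w + g • g • b • w) + (a • b • w + g • a • b • w + g • g • a • b • w) := by abel
        _ = 0 := by rw [hw3, hA, hB, hAB]; simp
    have h49 := fortynine_le h7 hgh hg3 (gst 1 1) hst0 (u0 w) hgu
    calc 7 ^ 5 ≤ 49 * 7 * 7 * 7 := by norm_num
      _ ≤ _ := Nat.mul_le_mul (Nat.mul_le_mul (Nat.mul_le_mul h49 hVa) hVb) hVc
      _ ≤ _ := hcard

end module

/-! ### `A₇` -/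

/-- the alternating group of degree seven -/
abbrev A7 : Type := ↥(alternatingGroup (Fin 7))

/-- an even permutation -/
def el (σ : Equiv.Perm (Fin 7)) (h : Equiv.Perm.sign σ = 1) : A7 := ⟨σ, Equiv.Perm.mem_alternatingGroup.2 h⟩

def xa : A7 := el (c[0, 1] * c[2, 3]) (by decide +kernel)
def xb : A7 := el (c[0, 2] * c[1, 3]) (by decide +kernel)
def xg : A7 := el c[4, 5, 6] (by decide +kernel)
def xh : A7 := el (c[0, 1] * c[4, 5]) (by decide +kernel)
def xs : A7 := el c[1, 2, 3] (by decide +kernel)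
def x7 : A7 := el c[0, 1, 2, 3, 4, 5, 6] (by decide +kernel)
def y7 : A7 := el c[0, 1, 2, 3, 4, 6, 5] (by decide +kernel)
def f1 : A7 := el (c[1, 3, 2, 5] * c[4, 6]) (by decide +kernel)

theorem card_A7 : Nat.card A7 = 2520 := by
  have h := two_mul_nat_card_alternatingGroup (α := Fin 7)
  rw [Nat.card_perm, Nat.card_fin] at h
  have h7 : Nat.factorial 7 = 5040 := rfl
  rw [h7] at h
  change 2 * Nat.card A7 = 5040 at h
  omega

/-- a subgroup of `A₇` containing `x7` and `y7` is `A₇` -/
theorem gen {K : Subgroup A7} (hx : x7 ∈ K) (hy : y7 ∈ K) : K = ⊤ := by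
  by_contra hne
  haveI : Fact (Nat.Prime 7) := ⟨by norm_num⟩
  haveI : Fact (Nat.Prime 5) := ⟨by norm_num⟩
  haveI : Fact (Nat.Prime 3) := ⟨by norm_num⟩
  haveI : Fact (Nat.Prime 2) := ⟨by norm_num⟩
  have hs : IsSimpleGroup A7 := alternatingGroup.isSimpleGroup (by simp)
  have h1 := Cfsg.Agent.SmallSimple.SylowCount.card_dvd_factorial_index K hne
  rw [card_A7] at h1
  have key : ∀ (w : A7) (n : ℕ), w ∈ K → orderOf w = n → n ∣ Nat.card K := by
    intro w n hw hn
    have := orderOf_dvd_natCard (⟨w, hw⟩ : K)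
    rwa [Subgroup.orderOf_mk, hn] at this
  have h7 : 7 ∣ Nat.card K := key x7 7 hx (orderOf_eq_prime_iff.2 ⟨by decide +kernel, by decide +kernel⟩)
  have h3 : 3 ∣ Nat.card K := key (x7 * y7) 3 (K.mul_mem hx hy)
    (orderOf_eq_prime_iff.2 ⟨by decide +kernel, by decide +kernel⟩)
  have h5 : 5 ∣ Nat.card K := key (x7 ^ 5 * y7) 5 (K.mul_mem (K.pow_mem hx 5) hy)
    (orderOf_eq_prime_iff.2 ⟨by decide +kernel, by decide +kernel⟩)
  have h4 : 4 ∣ Nat.card K := key (x7 ^ 3 * y7 * x7 * y7 ^ 2) 4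
    (K.mul_mem (K.mul_mem (K.mul_mem (K.pow_mem hx 3) hy) hx) (K.pow_mem hy 2))
    (orderOf_eq_prime_pow (p := 2) (n := 1) (by decide +kernel) (by decide +kernel))
  have h420 : 420 ∣ Nat.card K := by
    have h12 : 3 * 4 ∣ Nat.card K := Nat.Coprime.mul_dvd_of_dvd_of_dvd (by norm_num) h3 h4
    have h60 : 3 * 4 * 5 ∣ Nat.card K := Nat.Coprime.mul_dvd_of_dvd_of_dvd (by norm_num) h12 h5
    exact Nat.Coprime.mul_dvd_of_dvd_of_dvd (by norm_num) h60 h7
  have h2 := K.card_mul_index
  rw [card_A7] at h2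
  obtain ⟨c, hc⟩ := h420
  have h6 : K.index ≤ 6 := by
    have hc0 : 0 < c := by
      rcases Nat.eq_zero_or_pos c with h | h
      · rw [h, mul_zero] at hc
        rw [hc, zero_mul] at h2
        omega
      · exact h
    rw [hc] at h2
    by_contra h8
    have h9 : 7 ≤ K.index := by omega
    have h10 : 420 * 1 * 7 ≤ 420 * c * K.index := Nat.mul_le_mul (Nat.mul_le_mul le_rfl hc0) h9
    omega
  have h8 : 0 < K.index := Nat.pos_of_ne_zero Subgroup.index_ne_zero_of_finite
  have h9 : (2520 : ℕ) ∣ Nat.factorial 6 := h1.trans (Nat.factorial_dvd_factorial h6)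
  revert h9
  decide

universe u

/-- **`NoPEx 7 A₇`** -/
theorem noPEx_seven {H : Type u} [Group H] (e : H ≃* A7) : Cfsg.Agent.H665.RIM.NoPEx 7 H := by
  intro V _ _ _ h7 hnt hfaith hirr horb
  have hF : Fact (Nat.Prime 7) := ⟨by norm_num⟩
  have hs : IsSimpleGroup A7 := alternatingGroup.isSimpleGroup (by simp)
  have hsH : IsSimpleGroup H := (MulEquiv.isSimpleGroup_congr e).2 hs
  have hfin : Finite H := Finite.of_equiv A7 e.symm.toEquiv
  have hcard : Nat.card H = 2520 := by rw [Nat.card_congr e.toEquiv, card_A7]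
  have hPX : PX 7 H V := ⟨h7, hnt, hfaith, hirr, horb⟩
  set f := e.symm with hf
  have hord : orderOf (f x7) = 7 := by
    rw [MulEquiv.orderOf_eq]
    exact orderOf_eq_prime_iff.2 ⟨by decide +kernel, by decide +kernel⟩
  have hfac : (Nat.card H).factorization 7 = 1 := by
    rw [hcard, show (2520 : ℕ) = 7 ^ 1 * 360 by norm_num, Nat.factorization_mul (by norm_num) (by norm_num),
      Finsupp.add_apply, Nat.Prime.factorization_pow (by norm_num), Finsupp.single_eq_same,
      Nat.factorization_eq_zero_of_not_dvd (by norm_num)]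
  have hQ : Nat.card (zpowers (f x7)) = 7 ^ (Nat.card H).factorization 7 := by
    rw [Nat.card_zpowers, hord, hfac, pow_one]
  let P : Sylow 7 H := Sylow.ofCard (zpowers (f x7)) hQ
  have hP : (P : Subgroup H) = zpowers (f x7) := Sylow.coe_ofCard _ hQ
  have hn1 : 1 < Nat.card (Sylow 7 H) := by
    have h1 := Cfsg.Agent.SmallSimple.SylowCount.card_dvd_factorial_card_sylow (G := H) (p := 7)
      (by rw [hcard]; norm_num) (by rw [hcard]; norm_num)
    rw [hcard] at h1
    by_contra h2
    have h3 : Nat.card (Sylow 7 H) ≤ 1 := by omega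
    have h4 : (Nat.card (Sylow 7 H)).factorial = 1 := Nat.factorial_eq_one.2 h3
    rw [h4] at h1
    norm_num at h1
  have hn2 : Nat.card (Sylow 7 H) ≤ 7 ^ (2 + 1) := by
    have h1 : Nat.card (Sylow 7 H) ∣ (P : Subgroup H).index := P.card_dvd_index
    have h2 : (P : Subgroup H).index = 360 := by
      have h3 := (P : Subgroup H).card_mul_index
      rw [hP, Nat.card_zpowers, hord, hcard] at h3
      rw [hP]
      omega
    rw [h2] at h1
    have h4 : Nat.card (Sylow 7 H) ≡ 1 [MOD 7] := card_sylow_modEq_one 7 H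
    obtain ⟨c, hc⟩ := h1
    have h5 : c ≠ 0 := by
      rintro rfl
      omega
    have h6 : c ≠ 1 := by
      rintro rfl
      rw [mul_one] at hc
      rw [← hc] at h4
      revert h4
      decide
    have h7' : 2 ≤ c := by omega
    have h8 : Nat.card (Sylow 7 H) * 2 ≤ Nat.card (Sylow 7 H) * c := Nat.mul_le_mul_left _ h7'
    omega
  have hV := hPX.card_le_pow' P ![1, f f1] hn1 hn2 (by
    set K : Subgroup H := ⨆ i, (P : Subgroup H).map (MulAut.conj (![1, f f1] i : H)).toMonoidHom with hK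
    have hx : f x7 ∈ K := by
      have h1 : (P : Subgroup H).map (MulAut.conj (![1, f f1] 0 : H)).toMonoidHom ≤ K := le_iSup
        (fun i => (P : Subgroup H).map (MulAut.conj (![1, f f1] i : H)).toMonoidHom) 0
      apply h1
      refine ⟨f x7, by rw [hP]; exact mem_zpowers _, ?_⟩
      change (1 : H) * f x7 * 1⁻¹ = f x7
      simp
    have hy : f y7 ∈ K := by
      have h1 : (P : Subgroup H).map (MulAut.conj (![1, f f1] 1 : H)).toMonoidHom ≤ K := le_iSup
        (fun i => (P : Subgroup H).map (MulAut.conj (![1, f f1] i : H)).toMonoidHom) 1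
      have h2 : f f1 * f x7 * (f f1)⁻¹ ∈ K := h1 ⟨f x7, by rw [hP]; exact mem_zpowers _, rfl⟩
      have h3 := K.pow_mem h2 5
      have h4 : (f f1 * f x7 * (f f1)⁻¹) ^ 5 = f y7 := by
        rw [← map_mul, ← map_inv, ← map_mul, ← map_pow]
        have h5 : (f1 * x7 * f1⁻¹) ^ 5 = y7 := by decide +kernel
        rw [h5]
      rwa [h4] at h3
    have h1 : K.map e.toMonoidHom = ⊤ := gen ⟨f x7, hx, e.apply_symm_apply x7⟩ ⟨f y7, hy, e.apply_symm_apply y7⟩
    rw [eq_top_iff]
    intro z _
    have h2 : e z ∈ K.map e.toMonoidHom := by rw [h1]; trivial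
    obtain ⟨z', hz', hz''⟩ := h2
    have : z' = z := e.injective hz''
    rwa [← this])
  have hne : ∀ x : A7, x ≠ 1 → ∃ v : V, f x • v ≠ v := by
    intro x hx
    by_contra hcon
    push Not at hcon
    have h1 := hfaith _ hcon
    exact hx (by
      have := congrArg e h1
      rwa [hf, e.apply_symm_apply, map_one] at this)
  have hbig := big (V := V) h7 (a := f xa) (b := f xb) (g := f xg) (h := f xh) (s := f xs)
    (by rw [← map_mul, show xa * xa = 1 by decide +kernel, map_one])
    (by rw [← map_mul, show xb * xb = 1 by decide +kernel, map_one])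
    (by rw [← map_mul, ← map_mul, show xa * xb = xb * xa by decide +kernel])
    (by rw [← map_mul, ← map_mul, show xg * (xg * xg) = 1 by decide +kernel, map_one])
    (by rw [← map_mul, ← map_mul, show xg * xa = xa * xg by decide +kernel])
    (by rw [← map_mul, ← map_mul, show xg * xb = xb * xg by decide +kernel])
    (by rw [← map_mul, ← map_mul, ← map_mul, show xg * xh = xh * (xg * xg) by decide +kernel])
    (by rw [← map_mul, ← map_mul, show xa * xh = xh * xa by decide +kernel])
    (by rw [← map_mul, ← map_mul, ← map_mul, show xb * xh = xh * (xa * xb) by decide +kernel])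
    (by rw [← map_mul, ← map_mul, ← map_mul, show xa * xs = xs * (xa * xb) by decide +kernel])
    (by rw [← map_mul, ← map_mul, show xb * xs = xs * xa by decide +kernel])
    (by rw [← map_mul, ← map_mul, show xg * xs = xs * xg by decide +kernel])
    (hne xa (by decide +kernel)) (hne xg (by decide +kernel))
  have : (7 : ℕ) ^ 5 ≤ 7 ^ (2 * 2) := hbig.trans hV
  norm_num at this

theorem noPEx_seven_alt7 : Cfsg.Agent.H665.RIM.NoPEx 7 (alternatingGroup (Fin 7)) := noPEx_seven (MulEquiv.refl _)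

end Cfsg.Agent.H809.RIM
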